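import Mathlib
import Cfsg.Agent.Lib.Homog.SpLin
import Cfsg.Agent.Lib.Homog.Basic
import Cfsg.Agent.Lib.Core.PCore
import Cfsg.Agent.S1947

/-!
Characteristic subgroups of homogeneous groups; a perfect homogeneous group has no normal
`p`-subgroup for odd `p`.
-/

set_option autoImplicit false

namespace H65.HG

open Subgroup H47.Homog Cfsg
open scoped commutatorElement

variable {G : Type*} [Group G]

theorem hm_char (h : Hm G) (N : Subgroup G) [N.Characteristic] : Hm N := fun A B e => by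
  obtain ⟨φ, hφ⟩ := h.of_inj (N.subtype.comp A.subtype)
    (N.subtype.comp (B.subtype.comp e.toMonoidHom))
    (N.subtype_injective.comp A.subtype_injective)
    (N.subtype_injective.comp (B.subtype_injective.comp e.injective))
  exact ⟨MulAut.characteristic N φ, fun a => Subtype.ext (hφ a)⟩

theorem mem_char (h : Hm G) (N : Subgroup G) [N.Characteristic] {x y : G} (hx : x ∈ N)
    (e : orderOf x = orderOf y) : y ∈ N := by
  obtain ⟨φ, rfl⟩ := h.of_orderOf e
  exact characteristic_iff_le_comap.1 inferInstance φ hx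

theorem mem_char_prime (h : Hm G) (N : Subgroup G) [N.Characteristic] {p : ℕ} [Fact p.Prime]
    {x y : G} (hx : x ∈ N) (hp : orderOf x = p) (hy : y ^ p = 1) : y ∈ N := by
  by_cases e : y = 1
  · exact e ▸ one_mem _
  · exact mem_char h N hx (hp.trans (orderOf_eq_prime hy e).symm)

variable [Finite G]

theorem mem_char_dvd (h : Hm G) (N : Subgroup G) [N.Characteristic] {p : ℕ} [Fact p.Prime]
    (hd : p ∣ Nat.card N) {y : G} (hy : y ^ p = 1) : y ∈ N := by
  obtain ⟨z, hz⟩ := exists_prime_orderOf_dvd_card' p hd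
  exact mem_char_prime h N z.2 ((orderOf_coe z).trans hz) hy

theorem no_compl (hG : Group.IsPerfect G) {p : ℕ} [Fact p.Prime]
    (hp : p ∣ Nat.card G) : ¬ HasNormalPComplement p G := by
  rintro ⟨P, N, hN, h⟩
  have h1 := P.isPGroup'.of_equiv h.symm.QuotientMulEquiv.symm
  rcases subsingleton_or_nontrivial (G ⧸ N) with h2 | h2
  · have := P.dvd_card_of_dvd_card hp
    rw [← Nat.card_congr h.symm.QuotientMulEquiv.toEquiv, Nat.card_of_subsingleton (1 : G ⧸ N)] at this
    exact (Fact.out : p.Prime).not_dvd_one this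
  · exact Group.IsPerfect.not_isNilpotent (G ⧸ N) h1.isNilpotent

/-- A perfect group has a noncentral element of order `p` (or `4`). -/
theorem exists_noncentral (hG : Group.IsPerfect G) {p : ℕ} [Fact p.Prime] (hp : p ∣ Nat.card G) :
    ∃ a : G, (a ^ p = 1 ∨ (p = 2 ∧ a ^ 4 = 1)) ∧ a ∉ center G := by
  by_contra! h
  exact no_compl hG hp (Cfsg.Agent.S1947.result 1 fun a ha => by
    rw [Subgroup.upperCentralSeries_one]; exact h a ha)

theorem exists_noncentral_odd (hG : Group.IsPerfect G) {p : ℕ} [Fact p.Prime] (h2 : p ≠ 2)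
    (hp : p ∣ Nat.card G) : ∃ a : G, a ^ p = 1 ∧ a ∉ center G := by
  obtain ⟨a, h, ha⟩ := exists_noncentral hG hp
  exact ⟨a, h.resolve_right fun x => h2 x.1, ha⟩

theorem exists_noncentral_two (hG : Group.IsPerfect G) (hp : 2 ∣ Nat.card G) :
    ∃ a : G, a ^ 4 = 1 ∧ a ∉ center G := by
  obtain ⟨a, h, ha⟩ := exists_noncentral hG hp
  refine ⟨a, ?_, ha⟩
  rcases h with h | h
  · rw [show 4 = 2 * 2 from rfl, pow_mul, h, one_pow]
  · exact h.2

/-- If `O_p(G) ≠ 1`, the elements of order `p` commute. -/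
theorem omega_comm (h : Hm G) {p : ℕ} [Fact p.Prime] (hQ : pCore p G ≠ ⊥) :
    p ∣ Nat.card G ∧ ∀ x y : G, x ^ p = 1 → y ^ p = 1 → x * y = y * x := by
  have hP := H1.isPGroup_pCore (p := p) (G := G)
  have : Nontrivial (pCore p G) := (nontrivial_iff_ne_bot _).2 hQ
  have h1 := hP.center_nontrivial
  have h2 : p ∣ Nat.card ((center (pCore p G)).map (pCore p G).subtype) := by
    rw [card_map_of_injective (subtype_injective _)]
    obtain ⟨n, hn, e⟩ := (hP.to_subgroup (center _)).nontrivial_iff_card.1 h1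
    exact e ▸ dvd_pow_self p hn.ne'
  refine ⟨h2.trans (card_subgroup_dvd_card _), fun x y hx hy => ?_⟩
  obtain ⟨x', hx', rfl⟩ := mem_char_dvd h _ h2 hx
  obtain ⟨y', -, rfl⟩ := mem_char_dvd h _ h2 hy
  exact congrArg Subtype.val (mem_center_iff.1 hx' y').symm

omit [Finite G] in
/-- The subgroup of elements of order dividing `p`, when these commute. -/
def Om (p : ℕ) (hc : ∀ x y : G, x ^ p = 1 → y ^ p = 1 → x * y = y * x) : Subgroup G where
  carrier := {x | x ^ p = 1}
  one_mem' := one_pow p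
  mul_mem' := fun {a b} ha hb => by
    change (a * b) ^ p = 1
    rw [Commute.mul_pow (hc a b ha hb), ha, hb, one_mul]
  inv_mem' := fun {a} ha => by
    change a⁻¹ ^ p = 1
    rw [inv_pow, ha, inv_one]

omit [Finite G] in
theorem Om_normal (p : ℕ) (hc : ∀ x y : G, x ^ p = 1 → y ^ p = 1 → x * y = y * x) :
    (Om p hc).Normal := ⟨fun x hx g => by
  change (g * x * g⁻¹) ^ p = 1
  rw [conj_pow, show x ^ p = 1 from hx, mul_one, mul_inv_cancel]⟩

omit [Finite G] in
theorem eq_one_of_pow {p : ℕ} {d : G} (h : ∀ k : ℕ, (d ^ k) ^ p = 1 → d ^ k = 1) :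
    ∀ n : ℕ, d ^ p ^ n = 1 → d = 1
  | 0, e => by simpa using e
  | n + 1, e => eq_one_of_pow h n (h _ (by rwa [← pow_mul, ← pow_succ]))

/-- Automorphisms of an elementary abelian group are linear. -/
def linAut (V : Type*) [CommGroup V] (p : ℕ) [Fact p.Prime] [Module (ZMod p) (Additive V)] :
    MulAut V ≃* (Additive V ≃ₗ[ZMod p] Additive V) where
  toFun := fun α => (MulEquiv.toAdditive α).toLinearEquiv (ZMod.map_smul _)
  invFun := fun σ => MulEquiv.toAdditive.symm σ.toAddEquiv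
  left_inv := fun _ => rfl
  right_inv := fun _ => rfl
  map_mul' := fun a b => by
    ext x
    rw [LinearEquiv.mul_apply]
    simp only [AddEquiv.coe_toLinearEquiv]
    simp

theorem aut_bot' {V : Type*} [CommGroup V] {p : ℕ} [hp : Fact p.Prime] (h2 : p ≠ 2)
    [Module (ZMod p) (Additive V)] (N : Subgroup (MulAut V)) [hn : N.Normal]
    (hN : ∀ h ∈ N, h ^ p = 1 → h = 1) (hP : ⁅N, N⁆ = N) : N = ⊥ := by
  obtain ⟨L, hL⟩ : ∃ L : MulAut V →* (Additive V ≃ₗ[ZMod p] Additive V), Function.Bijective L :=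
    ⟨(linAut V p).toMonoidHom, (linAut V p).bijective⟩
  have : (N.map L).Normal := hn.map L hL.2
  have hb := lin_bot (p := p) (ZMod.natCast_self p) (fun e => h2 ?_) (N.map L) ?_
    (by rw [← map_commutator, hP])
  · exact (map_eq_bot_iff_of_injective _ hL.1).1 hb
  · have : ((2 : ℕ) : ZMod p) = 0 := e
    exact (Nat.prime_dvd_prime_iff_eq hp.out Nat.prime_two).1 ((ZMod.natCast_eq_zero_iff _ _).1 this)
  · rintro _ ⟨g, hg, rfl⟩ e
    rw [hN g hg (hL.1 (by rw [map_pow, map_one]; exact e)), map_one]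

theorem aut_bot {V : Type*} [CommGroup V] {p : ℕ} [hp : Fact p.Prime] (h2 : p ≠ 2)
    (hV : ∀ x : V, x ^ p = 1) (N : Subgroup (MulAut V)) [hn : N.Normal]
    (hN : ∀ h ∈ N, h ^ p = 1 → h = 1) (hP : ⁅N, N⁆ = N) : N = ⊥ :=
  @aut_bot' V _ p hp h2 (AddCommGroup.zmodModule fun x => by
    change Additive.ofMul (x.toMul ^ p) = Additive.ofMul 1
    exact congrArg _ (hV _)) N hn hN hP

theorem central_odd (h : Hm G) (hG : Group.IsPerfect G) {p : ℕ} [hp : Fact p.Prime] (h2 : p ≠ 2)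
    (hc : ∀ x y : G, x ^ p = 1 → y ^ p = 1 → x * y = y * x) {a : G} (ha : a ^ p = 1) :
    a ∈ center G := by
  set V := Om p hc with hV
  have hn : V.Normal := Om_normal p hc
  set ρ : G →* MulAut V := MulAut.conjNormal with hρ0
  have hρ : ∀ (g : G) (x : V), ((ρ g x : V) : G) = g * x * g⁻¹ := fun g x => rfl
  have hconj : ∀ (σ : MulAut V) (φ : G ≃* G),
      (∀ x : V, φ x = (σ x : V)) → ∀ g, ρ (φ g) * σ = σ * ρ g := by
    intro σ φ hφ g
    ext x
    change ((ρ (φ g) (σ x) : V) : G) = (σ (ρ g x) : V)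
    rw [hρ, ← hφ, ← hφ, hρ, map_mul, map_mul, map_inv]
  have hN : ρ.range.Normal := ⟨by
    rintro _ ⟨g, rfl⟩ σ
    obtain ⟨φ, hφ⟩ := h V V σ
    exact ⟨φ g, eq_mul_inv_iff_mul_eq.2 (hconj σ φ hφ g)⟩⟩
  have hker : ∀ c ∈ ρ.ker, ∀ y : G, y ^ p = 1 → c * y * c⁻¹ = y := fun c hc y hy => by
    have := hρ c ⟨y, hy⟩
    rw [(MonoidHom.mem_ker).1 hc] at this
    exact this.symm
  let i : CommGroup V := { (inferInstance : Group V) with
    mul_comm := fun x y => Subtype.ext (hc x y x.2 y.2) }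
  have hind : ¬ p ∣ ρ.ker.index := by
    obtain ⟨φ, hφ⟩ : ∃ φ : G ≃* G, ∀ x : V, φ x = (x : G)⁻¹ := h V V (@MulEquiv.inv V i.toDivisionCommMonoid)
    obtain ⟨P⟩ : Nonempty (Sylow p G) := inferInstance
    have h1 := card_dvd_twist φ.toMonoidHom ρ.ker P (fun g => by
      rw [MonoidHom.mem_ker, map_mul, map_inv, mul_inv_eq_one]
      ext x
      have e1 := hφ (ρ g x⁻¹)
      rw [hρ, map_mul, map_mul, map_inv, hφ] at e1
      rw [hρ, hρ]
      simp only [InvMemClass.coe_inv, inv_inv, mul_inv_rev] at e1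
      rw [mul_assoc]
      exact e1.symm) fun c hc d hd e => by
        obtain ⟨n, hn⟩ := P.isPGroup' ⟨d, hd⟩
        refine eq_one_of_pow (p := p) (fun k hk => ?_) n (congrArg Subtype.val hn)
        have e1 : φ d = c⁻¹ * d * c⁻¹⁻¹ := by
          have : d * c = c * φ d := mul_inv_eq_iff_eq_mul.1 e
          rw [inv_inv, mul_assoc, this, inv_mul_cancel_left]
        have e2 : φ (d ^ k) = d ^ k := by
          rw [map_pow, e1, conj_pow, hker _ (inv_mem hc) _ hk]
        have e3 : φ (d ^ k) = (d ^ k)⁻¹ := hφ ⟨d ^ k, hk⟩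
        have e4 : (d ^ k) ^ 2 = 1 := by rw [sq]; nth_rw 1 [← e2]; rw [e3, inv_mul_cancel]
        exact orderOf_eq_one_iff.1 (Nat.eq_one_of_dvd_coprimes
          ((Nat.coprime_primes hp.out Nat.prime_two).2 h2)
          (orderOf_dvd_of_pow_eq_one hk) (orderOf_dvd_of_pow_eq_one e4))
    obtain ⟨m, hm⟩ := h1
    have h3 := (P : Subgroup G).card_mul_index
    rw [← ρ.ker.card_mul_index, hm, mul_assoc] at h3
    have h4 := Nat.eq_of_mul_eq_mul_left Nat.card_pos h3
    exact fun hd => P.not_dvd_index (h4 ▸ hd.mul_left m)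
  have hb : ρ.range = ⊥ := @aut_bot V i p hp h2 (fun x => Subtype.ext x.2) ρ.range hN (by
    rintro _ ⟨g, rfl⟩ e
    have h5 : ρ g ^ ρ.ker.index = 1 := by
      rw [← map_pow]; exact pow_index_mem ρ.ker g
    exact orderOf_eq_one_iff.1 (Nat.eq_one_of_dvd_coprimes
      ((Nat.Prime.coprime_iff_not_dvd hp.out).2 hind)
      (orderOf_dvd_of_pow_eq_one e) (orderOf_dvd_of_pow_eq_one h5)))
    (isPerfect_iff.1 (Group.IsPerfect.range ρ))
  refine mem_center_iff.2 fun g => ?_
  have : g ∈ ρ.ker := (MonoidHom.mem_ker).2 (mem_bot.1 (hb ▸ ⟨g, rfl⟩))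
  exact mul_inv_eq_iff_eq_mul.1 (hker g this a ha)

theorem pCore_odd (h : Hm G) (hG : Group.IsPerfect G) {p : ℕ} [hp : Fact p.Prime] (h2 : p ≠ 2) :
    pCore p G = ⊥ := by
  by_contra hQ
  obtain ⟨h1, hc⟩ := omega_comm h hQ
  obtain ⟨a, ha, hz⟩ := exists_noncentral_odd hG h2 h1
  exact hz (central_odd h hG h2 hc ha)

theorem eqns_SpOdd : True := by
  have := @Om.eq_1.{0}
  have := @linAut.eq_1.{0}
  trivial

end H65.HG
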