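import Mathlib
import Cfsg.Agent.Lib.Homog.SpOdd
import Cfsg.Agent.Lib.Homog.Rank
import Cfsg.Agent.Lib.Homog.Central
import Cfsg.Agent.Lib.Comp.FStar
import Cfsg.Agent.S0071
import Cfsg.Agent.S0205
import Cfsg.Agent.S3099

/-!
A homogeneous group with trivial layer is solvable.
-/

set_option autoImplicit false

namespace H65.HG

open Subgroup H47.Homog Cfsg
open scoped commutatorElement

variable {G : Type*} [Group G] [Finite G]

omit [Finite G] in
theorem perfect_small (hG : Group.IsPerfect G) {X : Type*} [Finite X] (hX : Nat.card X ≤ 3)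
    (ρ : G →* Equiv.Perm X) (g : G) : ρ g = 1 := by
  classical
  have := Fintype.ofFinite X
  have h1 : ∀ g, ρ g ∈ alternatingGroup X := fun g => by
    have : (commutator G).map (Equiv.Perm.sign.comp ρ) = ⊥ := by
      rw [commutator_def, map_commutator]
      exact commutator_eq_bot_iff_le_centralizer.2 fun a _ b _ => mul_comm _ _
    exact mem_bot.1 (this ▸ mem_map_of_mem _ (Group.IsPerfect.mem_commutator (g := g)))
  have h2 := alternatingGroup.isMulCommutative_of_card_le_three hX
  have h3 : (commutator G).map ρ = ⊥ := by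
    rw [commutator_def, map_commutator]
    refine commutator_eq_bot_iff_le_centralizer.2 ?_
    rintro _ ⟨a, -, rfl⟩ _ ⟨b, -, rfl⟩
    exact congrArg Subtype.val (h2.is_comm.comm (⟨_, h1 b⟩ : alternatingGroup X) ⟨_, h1 a⟩)
  exact mem_bot.1 (h3 ▸ mem_map_of_mem _ (Group.IsPerfect.mem_commutator (g := g)))

theorem central_two (h : Hm G) (hG : Group.IsPerfect G)
    (hc : ∀ x y : G, x ^ 2 = 1 → y ^ 2 = 1 → x * y = y * x) {a : G} (ha : a ^ 2 = 1) :
    a ∈ center G := by
  set V := Om 2 hc with hV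
  have hn : V.Normal := Om_normal 2 hc
  refine mem_center_iff.2 fun g => ?_
  by_cases h4 : 4 < Nat.card V
  · exact (h.norm_le_cent (E := V) (fun x hx => by rw [← sq]; exact hx) h4 (mem_norm V g) a ha).symm
  · by_cases e : a = 1
    · simp [e]
    let X := {v : V // v ≠ 1}
    have hX : Nat.card X ≤ 3 := by
      classical
      have := Fintype.ofFinite V
      have h1 := Fintype.card_subtype_compl (fun v : V => v = 1)
      rw [Fintype.card_subtype_eq, ← Nat.card_eq_fintype_card, ← Nat.card_eq_fintype_card] at h1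
      change Nat.card {v : V // ¬ v = 1} ≤ 3
      omega
    let ρ : G →* Equiv.Perm X := MonoidHom.mk' (fun g => (MulAut.conjNormal g).toEquiv.subtypeEquiv
      fun v => by simp) fun a b => by
        ext x
        change a * b * x * (a * b)⁻¹ = a * (b * x * b⁻¹) * a⁻¹
        group
    have := congrArg (fun σ : Equiv.Perm X => ((σ ⟨⟨a, ha⟩, fun e' => e (congrArg Subtype.val e')⟩ :
      V) : G)) (perfect_small hG hX ρ g)
    exact mul_inv_eq_iff_eq_mul.1 this

theorem exists_pCore [Nontrivial G] (h : layer G = ⊥) : ∃ p : ℕ, p.Prime ∧ pCore p G ≠ ⊥ := by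
  by_contra! hp
  refine H23.fStar_ne_bot (G := G) ?_
  rw [H23.fStar_eq_fitting_iff.2 h, H1.fitting_eq_iSup_pCore]
  exact iSup_eq_bot.2 fun p => hp p p.2

theorem oddCore_bot (h : Hm G) (hG : Group.IsPerfect G) : oddCore G = ⊥ := by
  by_contra hO
  have : Nontrivial (oddCore G) := (nontrivial_iff_ne_bot _).2 hO
  have := Cfsg.Agent.S0205.result (H1.odd_card_oddCore (G := G))
  obtain ⟨p, hp, h1⟩ := exists_pCore (H23.layer_eq_bot_of_isSolvable (G := oddCore G))
  have : Fact p.Prime := ⟨hp⟩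
  have h2 : p ≠ 2 := by
    rintro rfl
    have : Nontrivial (pCore 2 (oddCore G)) := (nontrivial_iff_ne_bot _).2 h1
    obtain ⟨n, hn, e⟩ := (H1.isPGroup_pCore (p := 2) (G := oddCore G)).nontrivial_iff_card.1 this
    exact H1.not_dvd_card_pPrimeCore (p := 2) (G := G)
      ((e ▸ dvd_pow_self 2 hn.ne').trans (card_subgroup_dvd_card _))
  have h3 := H1.map_subtype_pCore_le (p := p) (oddCore G)
  rw [pCore_odd h hG h2, le_bot_iff, map_eq_bot_iff_of_injective _ (subtype_injective _)] at h3
  exact h1 h3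

theorem qs_of_two (h : Hm G) (hG : Group.IsPerfect G) (hQ : pCore 2 G ≠ ⊥) : IsQuasisimple G := by
  obtain ⟨h2', hcomm⟩ := omega_comm h hQ
  have hO := oddCore_bot h hG
  have key : ∀ a : G, a ^ 2 = 1 → a ∈ center G := fun a ha => central_two h hG hcomm ha
  have hc : ∀ x : G, x * x = 1 ↔ x ∈ center G := fun x => by
    refine ⟨fun e => key x (by rwa [sq]), fun hx => ?_⟩
    by_contra e
    obtain ⟨i, hi⟩ := exists_odd_pow x
    have h1 : x ^ 2 ^ i = 1 := by
      have hz : zpowers (x ^ 2 ^ i) ≤ center G := zpowers_le_of_mem (pow_mem hx _)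
      have : (zpowers (x ^ 2 ^ i)).Normal := ⟨fun y hy g => by
        rwa [mem_center_iff.1 (hz hy) g, mul_inv_cancel_right]⟩
      exact mem_bot.1 (hO ▸ H1.le_oddCore (by rwa [Nat.card_zpowers]) (mem_zpowers _))
    obtain ⟨k, -, hk⟩ := (Nat.dvd_prime_pow Nat.prime_two).1 (orderOf_dvd_of_pow_eq_one h1)
    obtain ⟨j, rfl⟩ : ∃ j, k = j + 2 := ⟨k - 2, by
      by_contra h
      refine e (by
        rw [← sq, ← orderOf_dvd_iff_pow_eq_one, hk]
        exact (pow_dvd_pow 2 (show k ≤ 1 by omega)))⟩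
    have h4 : orderOf (x ^ 2 ^ j) = 4 := by
      rw [orderOf_pow_of_dvd (by positivity) (hk ▸ pow_dvd_pow 2 (by omega)), hk, pow_add,
        Nat.mul_div_cancel_left _ (by positivity)]
      rfl
    obtain ⟨a, ha, hz⟩ := exists_noncentral_two hG h2'
    refine hz ?_
    by_cases e : a ^ 2 = 1
    · exact key a e
    · exact h.mem_center (h4.trans (orderOf_eq_prime_pow (p := 2) (n := 1) (by simpa using e)
        ha).symm) (pow_mem hx _)
  have hr : PRankLE 2 1 G := fun A _ hA => by
    by_contra! h3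
    have := Fintype.ofFinite A
    obtain ⟨x, y, z, hxy, hxz, hyz⟩ := (Fintype.two_lt_card_iff (α := A)).1
      (by rwa [← Nat.card_eq_fintype_card])
    have hsq : ∀ a : A, (a : G) * a = 1 := fun a => by rw [← sq, hA a a.2]
    obtain ⟨P⟩ : Nonempty (Sylow 2 G) := inferInstance
    refine no_compl hG h2' ⟨P, (Cfsg.Agent.S0071.result P).2 fun Q hQ g hg ho =>
      h.odd_cent hc (hsq (x⁻¹ * y)) (hsq (x⁻¹ * z)) ?_ ?_ ?_ Q (P.isPGroup'.to_le hQ) g hg
        (Nat.coprime_two_right.1 ho)⟩
    · exact fun e => hxy (inv_mul_eq_one.1 (Subtype.ext e))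
    · exact fun e => hxz (inv_mul_eq_one.1 (Subtype.ext e))
    · exact fun e => hyz (mul_left_cancel (Subtype.ext e))
  have e0 := ((QuotientGroup.quotientMulEquivOfEq hO).trans QuotientGroup.quotientBot).symm
  rcases Cfsg.Agent.S3099.result hG hr (even_iff_two_dvd.2 h2') with
    ⟨F, _, _, -, h3, ⟨e⟩⟩ | ⟨-, ⟨e⟩, -⟩
  · refine H23.IsQuasisimple.of_mulEquiv (e0.trans e).symm
      ⟨Group.IsPerfect.ofSurjective (f := (e0.trans e).toMonoidHom) (e0.trans e).surjective, ?_⟩
    exact Matrix.ProjectiveSpecialLinearGroup.rank_two_simple (by rwa [Nat.card_eq_fintype_card])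
  · have := alternatingGroup.isSimpleGroup (α := Fin 7) (by simp)
    exact H23.IsQuasisimple.of_mulEquiv e0.symm ⟨inferInstance, e.isSimpleGroup⟩

theorem perfect_layer (h : Hm G) (hG : Group.IsPerfect G) (hL : layer G = ⊥) : Subsingleton G := by
  by_contra hn
  have : Nontrivial G := not_subsingleton_iff_nontrivial.1 hn
  obtain ⟨p, hp, h1⟩ := exists_pCore hL
  have : Fact p.Prime := ⟨hp⟩
  by_cases h2 : p = 2
  · subst h2
    rw [H23.layer_eq_top_of_isQuasisimple (qs_of_two h hG h1)] at hL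
    exact top_ne_bot hL
  · exact h1 (pCore_odd h hG h2)

theorem solvable_of_layer (h : Hm G) (hL : layer G = ⊥) : Group.IsSolvable G := by
  obtain ⟨n, hn⟩ : ∃ n, derivedSeries G (n + 1) = derivedSeries G n := by
    obtain ⟨_, ⟨n, rfl⟩, hm⟩ := (wellFounded_lt (α := Subgroup G)).has_min
      (Set.range (derivedSeries G)) ⟨_, 0, rfl⟩
    exact ⟨n, eq_of_le_of_not_lt (commutator_le_left _ _) (hm _ ⟨n + 1, rfl⟩)⟩
  have hP : Group.IsPerfect (derivedSeries G n) := isPerfect_iff.2 hn
  have h1 : layer (derivedSeries G n) = ⊥ := by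
    have := H23.map_layer_subtype_le_of_isSubnormal
      (Normal.isSubnormal (inferInstance : (derivedSeries G n).Normal))
    rwa [hL, le_bot_iff, map_eq_bot_iff_of_injective _ (subtype_injective _)] at this
  have := perfect_layer (hm_char h _) hP h1
  exact ⟨n, eq_bot_of_subsingleton _⟩

end H65.HG
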