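import Mathlib
import Cfsg.Agent.Lib.Homog.SpTwo

/-!
A homogeneous group with nontrivial layer: the layer is quasisimple, and the structure of its
centraliser.
-/

set_option autoImplicit false

namespace H65.HG

open Subgroup H47.Homog Cfsg
open scoped commutatorElement

variable {G : Type*} [Group G] [Finite G]

theorem two_dvd_qs (h : IsQuasisimple G) : 2 ∣ Nat.card G := by
  by_contra h2
  exact H23.IsQuasisimple.not_isSolvable h
    (Cfsg.Agent.S0205.result (Nat.odd_iff.2 (Nat.two_dvd_ne_zero.1 h2)))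

omit [Finite G] in
theorem center_iff {L : Subgroup G} (a : L) : a ∈ center L ↔ (a : G) ∈ centralizer (L : Set G) :=
  ⟨fun h x hx => congrArg Subtype.val (mem_center_iff.1 h ⟨x, hx⟩),
    fun h => mem_center_iff.2 fun x => Subtype.ext (h x x.2)⟩

theorem exists_nc {L : Subgroup G} (hL : IsQuasisimple L) :
    ∃ a ∈ L, a ^ 4 = 1 ∧ a ∉ centralizer (L : Set G) := by
  obtain ⟨a, h1, h2⟩ := exists_noncentral_two hL.1 (two_dvd_qs hL)
  exact ⟨a, a.2, congrArg Subtype.val h1, fun h => h2 ((center_iff a).2 h)⟩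

theorem exists_nc_odd {L : Subgroup G} (hL : IsQuasisimple L) {p : ℕ} [Fact p.Prime] (h2 : p ≠ 2)
    (hp : p ∣ Nat.card L) : ∃ a ∈ L, a ^ p = 1 ∧ a ∉ centralizer (L : Set G) := by
  obtain ⟨a, h1, h2⟩ := exists_noncentral_odd hL.1 h2 hp
  exact ⟨a, a.2, congrArg Subtype.val h1, fun h => h2 ((center_iff a).2 h)⟩

omit [Finite G] in
theorem order_four {a : G} (h4 : a ^ 4 = 1) (h2 : a ^ 2 ≠ 1) : orderOf a = 4 :=
  orderOf_eq_prime_pow (p := 2) (n := 1) (by simpa using h2) h4

theorem comp_unique (h : Hm G) {L₁ L₂ : Subgroup G} (h₁ : IsComponent L₁) (h₂ : IsComponent L₂) :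
    L₁ = L₂ := by
  by_contra hne
  obtain ⟨a, ha, ha4, han⟩ := exists_nc h₁.2
  obtain ⟨b, hb, hb4, hbn⟩ := exists_nc h₂.2
  have cc : ∀ {L K : Subgroup G}, IsComponent L → IsComponent K → L ≠ K →
      L ≤ centralizer (K : Set G) := fun hL hK e =>
    commutator_eq_bot_iff_le_centralizer.1 (H23.IsComponent.commutator_eq_bot_of_ne hL hK e)
  have hab : Commute b a := cc h₁ h₂ hne ha b hb
  have tr : ∀ {L : Subgroup G} {x : G}, IsComponent L → x ∈ L → orderOf x = orderOf (a * b) →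
      ∃ K, IsComponent K ∧ a * b ∈ K := fun {L x} hL hx e => by
    obtain ⟨φ, hφ⟩ := h.of_orderOf e
    exact ⟨_, H23.IsComponent.map_equiv hL φ, x, hx, hφ⟩
  have h4 : (a * b) ^ 4 = 1 := by rw [hab.symm.mul_pow, ha4, hb4, one_mul]
  obtain ⟨K, hK, hc⟩ : ∃ K, IsComponent K ∧ a * b ∈ K := by
    by_cases h2 : (a * b) ^ 2 = 1
    · by_cases h1 : a * b = 1
      · exact ⟨L₁, h₁, h1 ▸ one_mem _⟩
      · obtain ⟨z, hz⟩ := exists_prime_orderOf_dvd_card' 2 (two_dvd_qs h₁.2)
        exact tr h₁ z.2 (((orderOf_coe z).trans hz).trans (orderOf_eq_prime h2 h1).symm)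
    · by_cases e : a ^ 2 = 1
      · refine tr h₂ hb ((order_four hb4 fun e' => h2 ?_).trans (order_four h4 h2).symm)
        rw [hab.symm.mul_pow, e, e', one_mul]
      · exact tr h₁ ha ((order_four ha4 e).trans (order_four h4 h2).symm)
  by_cases e : K = L₁
  · subst e
    exact hbn (cc h₁ h₂ hne ((K.mul_mem_cancel_left ha).1 hc))
  · exact han (((centralizer _).mul_mem_cancel_right (cc h₂ h₁ (Ne.symm hne) hb)).1 (cc hK h₁ e hc))

theorem layer_qs (h : Hm G) (hL : layer G ≠ ⊥) : IsQuasisimple (layer G) := by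
  obtain ⟨L, hL⟩ : ∃ L : Subgroup G, IsComponent L := by
    by_contra! hn
    exact hL (H23.layer_eq_bot_iff.2 hn)
  have : layer G = L := le_antisymm (H23.layer_le_iff.2 fun K hK => (comp_unique h hK hL).le)
    (H23.IsComponent.le_layer hL)
  rw [this]
  exact hL.2

variable {K : Subgroup G} [K.Characteristic]

theorem coprime_odd (h : Hm G) (hK : IsQuasisimple K) :
    (Nat.card (oddCore G)).Coprime (Nat.card K) := by
  refine Nat.coprime_of_dvd fun q hq h1 h2 => ?_
  have : Fact q.Prime := ⟨hq⟩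
  have h3 : q ≠ 2 := by
    rintro rfl
    exact H1.not_dvd_card_pPrimeCore h1
  obtain ⟨a, ha, haq, han⟩ := exists_nc_odd hK h3 h2
  have h4 := mem_char_dvd h _ h1 haq
  rcases H23.IsQuasisimple.eq_or_le_centralizer hK (N := oddCore G ⊓ K) inf_le_right
    (fun g _ => mem_norm _ g) with e | e
  · have : K ≤ oddCore G := e ▸ inf_le_left
    exact H1.not_dvd_card_pPrimeCore ((two_dvd_qs hK).trans (card_dvd_of_le this))
  · exact han (e ⟨h4, ha⟩)

theorem sq_of_cent (h : Hm G) (hK : IsQuasisimple K) {c : G} (hc : c ∈ centralizer (K : Set G))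
    (h4 : c ^ 4 = 1) : c ^ 2 = 1 := by
  by_contra h2
  obtain ⟨a, -, ha4, han⟩ := exists_nc hK
  refine han ?_
  by_cases e : a ^ 2 = 1
  · exact mem_char_prime h _ (pow_mem hc 2) (orderOf_eq_prime (by rw [← pow_mul]; exact h4) h2) e
  · exact mem_char h _ hc ((order_four h4 h2).trans (order_four ha4 e).symm)

theorem sq_of_cent_pow (h : Hm G) (hK : IsQuasisimple K) :
    ∀ (j : ℕ) {c : G}, c ∈ centralizer (K : Set G) → c ^ 2 ^ j = 1 → c ^ 2 = 1
  | 0, c, _, e => by rw [show c = 1 by simpa using e, one_pow]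
  | j + 1, c, hc, e => sq_of_cent h hK hc (by
      rw [show 4 = 2 * 2 from rfl, pow_mul]
      exact sq_of_cent_pow h hK j (pow_mem hc 2) (by rwa [← pow_mul, ← pow_succ']))

theorem odd_mem (h : Hm G) (hK : IsQuasisimple K) {c : G} (hc : c ∈ centralizer (K : Set G))
    (ho : Odd (orderOf c)) : c ∈ oddCore G := by
  set C := centralizer (K : Set G) with hC
  obtain ⟨P, N, hN, hNP⟩ : HasNormalPComplement 2 C := Cfsg.Agent.S1947.result 1 fun a ha => by
    rw [Subgroup.upperCentralSeries_one]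
    have h2 : (a : G) ^ 2 = 1 := by
      rcases ha with ha | ha
      · exact congrArg Subtype.val ha
      · exact sq_of_cent h hK a.2 (congrArg Subtype.val ha.2)
    have h3 := mem_char_dvd h K (two_dvd_qs hK) h2
    exact mem_center_iff.2 fun g => Subtype.ext (g.2 a h3).symm
  have h1 : N ≤ oddCore C := H1.le_pPrimeCore_of_not_dvd (by
    rw [← hNP.index_eq_card]; exact P.not_dvd_index)
  have h2 : (⟨c, hc⟩ : C) ∈ N := by
    obtain ⟨n, hn⟩ := P.isPGroup'.exists_card_eq
    have h3 := pow_index_mem N ⟨c, hc⟩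
    rw [hNP.symm.index_eq_card, hn] at h3
    exact mem_of_pow_two_pow (by rwa [← orderOf_coe]) h3
  exact H1.map_subtype_pPrimeCore_le C ⟨_, h1 h2, rfl⟩

theorem mem_of_sq_cent (h : Hm G) (hK : IsQuasisimple K) {x : G}
    (hx : x ^ 2 ∈ centralizer (K : Set G)) : x ∈ oddCore G ⊔ K := by
  obtain ⟨i, hi⟩ := exists_odd_pow (x ^ 2)
  have h1 := odd_mem h hK (pow_mem hx _) hi
  set m := orderOf ((x ^ 2) ^ 2 ^ i) with hm
  have h2 : ((x ^ 2) ^ m) ^ 2 = 1 := sq_of_cent_pow h hK i (pow_mem hx m) (by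
    rw [← pow_mul, mul_comm, pow_mul, hm, pow_orderOf_eq_one])
  have h4 : (x ^ m) ^ 4 = 1 := by
    rw [← h2]; simp only [← pow_mul]; congr 1; ring
  have h3 : x ^ m ∈ K := by
    by_cases e : (x ^ m) ^ 2 = 1
    · exact mem_char_dvd h K (two_dvd_qs hK) e
    · obtain ⟨a, ha, ha4, han⟩ := exists_nc hK
      refine mem_char h K ha ((order_four ha4 fun e' => han ?_).trans (order_four h4 e).symm)
      refine mem_char_prime h _ (x := (x ^ m) ^ 2) ?_
        (orderOf_eq_prime (by rw [← pow_mul]; exact h4) e) e'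
      rw [← pow_mul, mul_comm, pow_mul]
      exact pow_mem hx m
  rw [← pow_mul, ← pow_succ'] at h1
  have h5 : (2 ^ (i + 1)).Coprime m := (Nat.coprime_two_left.2 hi).pow_left _
  obtain ⟨u, v, huv⟩ := Nat.isCoprime_iff_coprime.2 h5
  have : x = (x ^ 2 ^ (i + 1)) ^ u * (x ^ m) ^ v := by
    rw [← zpow_natCast, ← zpow_natCast, ← zpow_mul, ← zpow_mul, ← zpow_add, mul_comm _ u,
      mul_comm _ v, huv, zpow_one]
  rw [this]
  exact mul_mem (zpow_mem (mem_sup_left h1) _) (zpow_mem (mem_sup_right h3) _)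

end H65.HG
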