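import Mathlib
import Cfsg.Agent.Lib.Homog.Basic
import Cfsg.Agent.Lib.Loc91.ModU3
import Cfsg.Agent.Lib.TwoFusion.U34Model
import Cfsg.Agent.Lib.Golay.Mathieu
import Cfsg.Agent.S0420
import Cfsg.Agent.S0435
import Cfsg.Agent.S2060

/-!
The groups `L₃(q)`, `U₃(q)`, `A₇`, `2.A₇`, `M₁₁` are not homogeneous.
-/

set_option autoImplicit false

namespace H47.Homog

open Subgroup H69 Cfsg Matrix

section U3
open H11.U H8.U3

variable {F : Type*} [Field F] [Fintype F]

theorem not_hm_psu {q : ℕ} (hF : Fintype.card F = q ^ 2) (hq : Odd q) : ¬ Hm (PSU 3 F q) := fun h => by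
  have : IsSq F q := ⟨hF⟩
  have h2 := two_ne_zero_of_odd F hq
  obtain ⟨p, hc⟩ := CharP.exists F
  have : Fact p.Prime := ⟨CharP.char_is_prime F p⟩
  obtain ⟨e, he⟩ := exists_iso F q
  obtain ⟨w, f, hf⟩ := he.exists_fr
  obtain ⟨c, hc'⟩ := exists_trace_eq (q := q) (c := -((1 : F) * cj q 1)) (by rw [map_neg, cj_norm])
  obtain ⟨u, hu, hx, -⟩ := hf.exists_Q (x := 1) (c := c) (by rw [hc']; ring)
  let π := QuotientGroup.mk' (center (SU 3 F q))
  have h1 : π u ≠ 1 := fun e => by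
    rw [eq_one_of_mem_center ((QuotientGroup.eq_one_iff _).1 e) he.1 hu, hf.xx_one] at hx
    exact zero_ne_one hx
  have ho : orderOf (π u) = p := orderOf_eq_prime (by rw [← map_pow, hf.pow_char p h2 hu, map_one]) h1
  obtain ⟨P, hP⟩ := (IsPGroup.iff_card.2 ⟨1, by rw [Nat.card_zpowers, ho, pow_one]⟩ :
    IsPGroup p (zpowers (π u))).exists_le_sylow
  obtain ⟨z, hz, hz', hz''⟩ := H5.exists_mem_centralizer_orderOf_eq P.isPGroup' le_rfl le_normalizer
    fun e => h1 (mem_bot.1 (e ▸ hP (mem_zpowers _)))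
  obtain ⟨φ, hφ⟩ := h.of_orderOf (hz''.trans ho.symm)
  obtain ⟨e', c', he', -, hc'', e1⟩ := H91.MB.u3_tv p (P.mapSurjective (f := φ.toMonoidHom) φ.surjective)
    (s := π u) ⟨z, hz, hφ⟩ h1 (by
      rintro _ ⟨t, ht, rfl⟩
      rw [← hφ]
      exact (map_mul φ _ _).symm.trans ((congrArg φ (hz' t ht)).trans (map_mul φ _ _)))
  obtain ⟨a, ha⟩ := H8.U3.mem_center_iff.1 (QuotientGroup.eq.1 e1)
  have h3 : ∀ v, ac (tv q e' c') v = a • ac u v := fun v => by rw [← ac_smul, ← ha, ac_mul, ac_ac_inv]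
  have h4 : ∀ v, (a * a) • ac (u * u) v + v = (2 * a) • ac u v := fun v => by
    have : ac (tv q e' c') (ac (tv q e' c') v) + v = (2 : F) • ac (tv q e' c') v := by
      rw [ac_tv he'.2 hc'', ac_tv he'.2 hc'', form_add_left, form_smul_left, he'.2]
      module
    rwa [h3, h3, ac_smul, smul_smul, smul_smul, ← ac_mul] at this
  have h5 := h4 e
  rw [mem_Fx.1 hu, mem_Fx.1 (mul_mem hu hu), ← one_smul F e, smul_smul, smul_smul, ← add_smul] at h5
  have h6 : a = 1 := by
    have := smul_inj he.1 h5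
    exact sub_eq_zero.1 (pow_eq_zero_iff two_ne_zero |>.1 (by linear_combination this))
  have h7 := congrArg (fun v => hermForm 3 F q v f) (h4 f)
  simp only [h6, form_add_left, form_smul_left, hf.ff] at h7
  have h8 := hf.cc_mul hu hu
  rw [hx, map_one] at h8
  simp only [cc] at h8
  exact one_ne_zero (α := F) (by linear_combination h8 - h7)

/-- Diagonal unitary matrices. -/
def dg3 [IsSq F 4] {a : F} (h : a ^ 5 = 1) (i j k : ℕ) (e : i + j + k = 5) : SU 3 F 4 :=
  toSU (diagonal ![a ^ i, a ^ j, a ^ k]) (by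
    have : ∀ i : ℕ, a ^ i * cj 4 (a ^ i) = 1 := fun i => by
      rw [cj_apply, ← pow_succ', ← pow_mul, mul_comm, pow_mul, h, one_pow]
    rw [isIso_iff, diagonal_transpose, diagonal_map (map_zero _), diagonal_mul_diagonal, ← diagonal_one]
    congr 1; ext x; fin_cases x <;> exact this _) (by
    rw [det_diagonal, Fin.prod_univ_three]
    exact (by rw [← pow_add, ← pow_add, e, h] : a ^ i * a ^ j * a ^ k = 1))

theorem not_hm_psu34 (hF : Fintype.card F = 16) : ¬ Hm (PSU 3 F 4) := fun h => by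
  have := H41.isSq_of_card hF
  replace h := h.equiv ((QuotientGroup.quotientMulEquivOfEq (H41.center_SU_three_four F)).trans
    QuotientGroup.quotientBot)
  obtain ⟨a, h1, h2⟩ := exists_gen_norm F 4
  rw [cj_apply, ← pow_succ'] at h1
  have h0 : a ≠ 0 := by rintro rfl; simp at h1
  have h3 : a ≠ 1 := fun e => absurd (h2 1 (by rw [e, one_pow])) (by decide)
  have h4 : a ^ 4 ≠ 1 := fun e => absurd (h2 4 e) (by decide)
  have h5 : a ^ 3 ≠ 1 := fun e => absurd (h2 3 e) (by decide)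
  have : Fact (Nat.Prime 5) := ⟨by norm_num⟩
  let M : SU 3 F 4 →* Matrix (Fin 3) (Fin 3) F := (slToMat 3 F).comp (SU 3 F 4).subtype
  have hM : Function.Injective M := fun _ _ e => Subtype.ext (Subtype.ext e)
  have hd : ∀ i j k e, M (dg3 h1 i j k e) = diagonal ![a ^ i, a ^ j, a ^ k] := fun _ _ _ _ => rfl
  have ho : ∀ i k e, orderOf (dg3 h1 i 1 k e) = 5 := fun i k e => orderOf_eq_prime (hM (by
    rw [map_pow, hd, map_one, diagonal_pow, ← diagonal_one]
    congr 1; ext x
    fin_cases x <;> simp [pow_right_comm a _ 5, show a ^ 5 = 1 from h1])) fun e => h3 (by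
      simpa [hd] using congrArg (fun g => M g 1 1) e)
  let s : SU 3 F 4 := toSU !![0, 1, 0; -1, 0, 0; 0, 0, 1] (by
    rw [isIso_iff]; ext i j
    fin_cases i <;> fin_cases j <;> simp [Matrix.mul_apply, Fin.sum_univ_three]) (by simp [det_fin_three])
  have hs : M s = !![0, 1, 0; -1, 0, 0; 0, 0, 1] := rfl
  have key : ∀ g : SU 3 F 4, g * dg3 h1 0 1 4 rfl = dg3 h1 0 1 4 rfl * g → ∃ d, M g = diagonal d :=
    fun g hg => by
      refine ⟨fun i => M g i i, ?_⟩
      ext i j
      have h7 := congrArg (fun g => M g i j) hg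
      simp only [map_mul, hd, mul_diagonal, diagonal_mul] at h7
      have h8 : a ^ 4 ≠ a := fun e => h5 (mul_left_cancel₀ h0 (by rw [← pow_succ', e, mul_one]))
      by_cases e : i = j
      · rw [e, diagonal_apply_eq]
      rw [diagonal_apply_ne _ e]
      rw [mul_comm] at h7
      refine (mul_eq_mul_right_iff.1 h7).resolve_left ?_
      fin_cases i <;> fin_cases j <;> simp [h3, h4, h8, h3.symm, h4.symm, h8.symm] at e ⊢
  have := h.comm_cent ((ho 1 3 rfl).trans (ho 0 4 rfl).symm) (fun g k hg hk => hM (by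
    obtain ⟨d, hd⟩ := key g hg
    obtain ⟨d', hd'⟩ := key k hk
    simp only [map_mul, hd, hd', diagonal_mul_diagonal, mul_comm])) (a := s)
    (b := dg3 h1 0 1 4 rfl) (hM (by
      ext i j
      fin_cases i <;> fin_cases j <;> simp [hs, hd, Matrix.mul_apply, Fin.sum_univ_three])) (hM (by
      simp only [map_mul, hd, diagonal_mul_diagonal, mul_comm]))
  have h9 := congrArg (fun g => M g 0 1) this
  exact h3 (by simpa [hs, hd, Matrix.mul_apply, Fin.sum_univ_three] using h9)

end U3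

theorem slToMat_inj {n : ℕ} {F : Type*} [Field F] : Function.Injective (slToMat n F) :=
  fun _ _ e => Subtype.ext e

theorem mk_eq {n : ℕ} {F : Type*} [Field F] {g k : Matrix.SpecialLinearGroup (Fin n) F}
    (e : QuotientGroup.mk' (center _) g = QuotientGroup.mk' (center _) k) :
    ∃ c : F, c ^ n = 1 ∧ slToMat n F k = c • slToMat n F g := by
  obtain ⟨z, hz, rfl⟩ := (QuotientGroup.mk'_eq_mk' _).1 e
  obtain ⟨r, h, hr⟩ := Matrix.SpecialLinearGroup.mem_center_iff.1 hz
  refine ⟨r, by simpa using h, ?_⟩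
  rw [map_mul, show slToMat n F z = _ from hr.symm, scalar_apply, ← smul_eq_mul_diagonal]

theorem not_hm_psl3 {F : Type*} [Field F] [Fintype F] (hF : Odd (Fintype.card F)) :
    ¬ Hm (ProjectiveSpecialLinearGroup (Fin 3) F) := fun h => by
  obtain ⟨p, hc⟩ := CharP.exists F
  have hp : Fact p.Prime := ⟨CharP.char_is_prime F p⟩
  have h3 : 3 ≤ p := by
    obtain ⟨n, -, hn⟩ := FiniteField.card F p
    have := hp.out.two_le
    by_contra h
    obtain rfl : p = 2 := by omega
    exact absurd (hF.of_dvd_nat (hn ▸ dvd_pow_self 2 n.ne_zero)) (by decide)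
  let U (a b c : F) : SpecialLinearGroup (Fin 3) F :=
    ⟨!![1, a, c; 0, 1, b; 0, 0, 1], by simp [det_fin_three]⟩
  have hU : ∀ a b c, slToMat 3 F (U a b c) = !![1, a, c; 0, 1, b; 0, 0, 1] := fun _ _ _ => rfl
  let π := QuotientGroup.mk' (center (SpecialLinearGroup (Fin 3) F))
  have ho : ∀ a, orderOf (π (U a a 1)) = p := fun a => orderOf_eq_prime (by
    rw [← map_pow, ← map_one π]
    refine congrArg π (slToMat_inj ?_)
    have e : slToMat 3 F (U a a 1) = 1 + !![0, a, 1; 0, 0, a; 0, 0, 0] := by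
      ext i j; fin_cases i <;> fin_cases j <;> simp [hU]
    have e3 : !![0, a, 1; 0, 0, a; 0, 0, 0] ^ 3 = 0 := by
      ext i j; fin_cases i <;> fin_cases j <;> simp [pow_succ]
    rw [map_pow, e, add_pow_char_of_commute p (Commute.one_left _), one_pow,
      pow_eq_zero_of_le h3 e3, add_zero, map_one]) fun e => by
      obtain ⟨c, -, hc⟩ := mk_eq (g := 1) e.symm
      simpa [hU] using congrFun (congrFun hc 0) 2
  have key : ∀ g, π g * π (U 1 1 1) = π (U 1 1 1) * π g →
      ∃ a b c : F, slToMat 3 F g = !![a, b, c; 0, a, b; 0, 0, a] := fun g hg => by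
    obtain ⟨c, -, hc⟩ := mk_eq ((map_mul π _ _).trans (hg.trans (map_mul π _ _).symm))
    have hd : (slToMat 3 F g).det = 1 := g.2
    rw [map_mul, map_mul, hU] at hc
    generalize slToMat 3 F g = A at hc hd
    have h1 := fun i j => congrFun (congrFun hc i) j
    rw [det_fin_three] at hd
    simp [Fin.forall_fin_succ, Matrix.mul_apply, Fin.sum_univ_three] at h1
    clear hc hg ho hU h hp
    have : c = 1 := by
      by_contra h
      have a2 : A 2 0 = 0 := by grind
      have a1 : A 1 0 = 0 := by grind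
      have a0 : A 0 0 = 0 := by grind
      simp [a0, a1, a2] at hd
    subst this
    refine ⟨A 0 0, A 0 1, A 0 2, ?_⟩
    ext i j
    fin_cases i <;> fin_cases j <;> simp <;> grind
  have := h.comm_cent ((ho 0).trans (ho 1).symm) (fun g k hg hk => by
    obtain ⟨g, rfl⟩ := QuotientGroup.mk'_surjective _ g
    obtain ⟨k, rfl⟩ := QuotientGroup.mk'_surjective _ k
    obtain ⟨a, b, c, hd⟩ := key g hg
    obtain ⟨a', b', c', hd'⟩ := key k hk
    rw [← map_mul, ← map_mul]
    refine congrArg π (slToMat_inj ?_)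
    simp only [map_mul, hd, hd']
    ext i j
    fin_cases i <;> fin_cases j <;> simp <;> ring) (a := π (U 1 0 0)) (b := π (U 0 1 0)) (by
      rw [← map_mul, ← map_mul]; exact congrArg π (slToMat_inj (by simp only [map_mul, hU]; simp))) (by
      rw [← map_mul, ← map_mul]; exact congrArg π (slToMat_inj (by simp only [map_mul, hU]; simp)))
  obtain ⟨c, -, hc⟩ := mk_eq ((map_mul π _ _).trans (this.trans (map_mul π _ _).symm))
  simp only [map_mul, hU] at hc
  have h1 := congrFun (congrFun hc 0) 0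
  have h2 := congrFun (congrFun hc 0) 2
  simp at h1 h2
  exact one_ne_zero (h1.trans h2.symm)

theorem seven_aux (z : Equiv.Perm (Fin 7)) (h1 : z * c[0, 1, 2] * c[3, 4, 5] = c[0, 1, 2] * c[3, 4, 5] * z)
    (h2 : z * z = 1) (h3 : Equiv.Perm.sign z = 1) : z = 1 := by
  have key : ∀ a c d : Fin 7, let b : Fin 7 → Fin 7 := ![1, 2, 0, 4, 5, 3, 6]
      let f : Fin 7 → Fin 7 := ![a, b a, b (b a), c, b c, b (b c), d]
      (∀ i, f (f i) = i) → b d = d → (∀ i, f i = i) ∨
        ∃ k ∈ ([(3, 4, 5), (4, 5, 3), (5, 3, 4)] : List (Fin 7 × Fin 7 × Fin 7)),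
          ∀ i, f i = (Equiv.swap 0 k.1 * Equiv.swap 1 k.2.1 * Equiv.swap 2 k.2.2) i := by
    decide +kernel
  have hb : ∀ i, z (![1, 2, 0, 4, 5, 3, 6] i) = ![1, 2, 0, 4, 5, 3, 6] (z i) := fun i => by
    have e : ∀ i, (c[0, 1, 2] * c[3, 4, 5] : Equiv.Perm (Fin 7)) i = ![1, 2, 0, 4, 5, 3, 6] i := by
      decide +kernel
    rw [← e, ← e, ← Equiv.Perm.mul_apply, ← mul_assoc, h1, Equiv.Perm.mul_apply]
  have hz := key (z 0) (z 3) (z 6)
  simp only [← hb] at hz
  have e : ∀ i, z i = ![z 0, z 1, z 2, z 3, z 4, z 5, z 6] i := fun i => by fin_cases i <;> rfl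
  rcases hz (fun i => by
    change ![z 0, z 1, z 2, z 3, z 4, z 5, z 6] (![z 0, z 1, z 2, z 3, z 4, z 5, z 6] i) = i
    rw [← e, ← e, ← Equiv.Perm.mul_apply, h2, Equiv.Perm.one_apply]) rfl with h | ⟨k, hk, h⟩
  · exact Equiv.ext fun i => (e i).trans (h i)
  · rw [show z = _ from Equiv.ext fun i => (e i).trans (h i)] at h3
    simp [Equiv.Perm.sign_swap', show (0 : Fin 7) ≠ k.1 ∧ (1 : Fin 7) ≠ k.2.1 ∧ (2 : Fin 7) ≠ k.2.2 by
      clear h h3; revert k; decide +kernel] at h3

theorem not_hm_A7 {G : Type*} [Group G] (π : G →* alternatingGroup (Fin 7))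
    (hπ : Function.Surjective π) (hk : π.ker = center G) (h2 : ∀ z ∈ center G, z * z = 1) :
    ¬ Hm G := fun h => by
  have lift : ∀ a : alternatingGroup (Fin 7), a ^ 3 = 1 → a ≠ 1 → ∃ x, π x = a ∧ orderOf x = 3 :=
    fun a h3 h1 => by
      obtain ⟨y, rfl⟩ := hπ a
      have : Fact (Nat.Prime 3) := ⟨by norm_num⟩
      have e : π (y ^ 4) = π y := by rw [map_pow, pow_succ, h3, one_mul]
      refine ⟨y ^ 4, e, orderOf_eq_prime ?_ fun e' => h1 (by rw [← e, e', map_one])⟩
      have := h2 (y ^ 3) (hk ▸ MonoidHom.mem_ker.2 (by rw [map_pow, h3]))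
      rw [← pow_mul, show 4 * 3 = (3 + 3) * 2 from rfl, pow_mul, pow_add, this, one_pow]
  obtain ⟨x, hx, hx'⟩ := lift ⟨c[0, 1, 2], Equiv.Perm.mem_alternatingGroup.2 (by decide +kernel)⟩ (by decide +kernel) (by decide +kernel)
  obtain ⟨y, hy, hy'⟩ := lift ⟨c[0, 1, 2] * c[3, 4, 5], Equiv.Perm.mem_alternatingGroup.2 (by decide +kernel)⟩
    (by decide +kernel)
    (by decide +kernel)
  obtain ⟨φ, rfl⟩ := h.of_orderOf (hx'.trans hy'.symm)
  obtain ⟨w, hw⟩ := hπ ⟨Equiv.swap 3 4 * Equiv.swap 5 6, Equiv.Perm.mem_alternatingGroup.2 (by decide +kernel)⟩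
  have hφ : ∀ g, π (φ g) = 1 ↔ π g = 1 := fun g => by
    rw [← MonoidHom.mem_ker, ← MonoidHom.mem_ker, hk]
    exact MulEquivClass.apply_mem_center_iff φ
  have e1 : π (φ (w * w)) = 1 := (hφ _).2 (by rw [map_mul, hw]; decide +kernel)
  have e2 : π (φ (w * x * (x * w)⁻¹)) = 1 := (hφ _).2 (by
    simp only [map_mul, map_inv, hw, hx]; decide +kernel)
  simp only [map_mul, map_inv, hy, mul_inv_eq_one] at e1 e2
  have e3 := (hφ w).1 (Subtype.ext (seven_aux _ (by simpa [mul_assoc] using congrArg Subtype.val e2)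
    (congrArg Subtype.val e1) (π (φ w)).2))
  rw [hw] at e3
  exact absurd e3 (by decide +kernel)

theorem not_hm_M11 {G : Type*} [Group G] [Finite G] (hG : IsM11 G) : ¬ Hm G := fun h => by
  obtain ⟨e⟩ := Cfsg.Agent.S0420.result hG _ H15.squareDodecad_mem _ H15.zero_mem_squareDodecad
  replace e : G ≃* Spor.M11 := e.trans
    { toFun := fun x => ⟨x.1.1, ⟨x.1.2, x.2.1⟩, x.2.2⟩
      invFun := fun x => ⟨⟨x.1, x.2.1.1⟩, x.2.1.2, x.2.2⟩
      left_inv := fun _ => rfl
      right_inv := fun _ => rfl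
      map_mul' := fun _ _ => rfl }
  have hinn : ∀ φ : G ≃* G, ∃ g, ∀ x, φ x = g * x * g⁻¹ := fun φ => by
    have h1 : Inn Spor.M11 = ⊤ := index_eq_one.1 Cfsg.Agent.S2060.result
    obtain ⟨g, hg⟩ : (e.symm.trans φ).trans e ∈ Inn Spor.M11 := h1 ▸ mem_top _
    exact ⟨e.symm g, fun x => e.injective (by simpa using (DFunLike.congr_fun hg (e x)).symm)⟩
  have : Fact (Nat.Prime 11) := ⟨by norm_num⟩
  obtain ⟨P⟩ : Nonempty (Sylow 11 G) := inferInstance
  have hP : Nat.card P = 11 := by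
    rw [P.card_eq_multiplicity, hG.2, show 7920 = 11 * 720 from rfl,
      Nat.factorization_mul (by norm_num) (by norm_num), Finsupp.add_apply,
      Nat.factorization_eq_zero_of_not_dvd (n := 720) (by norm_num), this.out.factorization_self]
    rfl
  have := isCyclic_of_prime_card hP
  have hs : Function.Surjective (P : Subgroup G).normalizerMonoidHom := fun σ => by
    obtain ⟨φ, hφ⟩ := h _ _ σ
    obtain ⟨g, hg⟩ := hinn φ
    refine ⟨⟨g, mem_normalizer_of_cj_le fun z hz => ?_⟩, MulEquiv.ext fun a => Subtype.ext ?_⟩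
    · obtain ⟨a, ha, rfl⟩ := mem_cj'.1 hz
      rw [← hg, hφ ⟨a, ha⟩]; exact (σ _).2
    · exact (hg a).symm.trans (hφ a)
  have h1 := (P : Subgroup G).normalizerMonoidHom.ker.index_mul_card
  rw [index_ker, MonoidHom.range_eq_top.2 hs, card_top, IsCyclic.card_mulAut, hP,
    normalizerMonoidHom_ker, card_subgroupOf (centralizer_le_normalizer _)] at h1
  have h2 := (𝐍((P : Subgroup G))).index_mul_card
  rw [← h1, hG.2, show (𝐍((P : Subgroup G))).index = _ from P.card_eq_index_normalizer.symm,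
    Nat.totient_prime (by norm_num)] at h2
  have h3 := card_sylow_modEq_one 11 G
  have h4 : 11 ∣ Nat.card 𝐂((P : Subgroup G)) := hP.symm.dvd.trans (card_dvd_of_le (le_centralizer _))
  have h5 : ¬ 2 ∣ Nat.card 𝐂((P : Subgroup G)) := fun d => by
    obtain ⟨t, ht⟩ := exists_prime_orderOf_dvd_card' 2 d
    have := card_dvd_of_le (show (P : Subgroup G) ≤ centralizer {t.1} from fun x hx =>
      mem_centralizer_singleton_iff.2 (t.2 x hx))
    rw [hP, Cfsg.Agent.S0435.result hG t.1 ((orderOf_coe t).trans ht)] at this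
    omega
  obtain ⟨c, hc⟩ := h4
  rw [hc] at h2 h5
  generalize Nat.card (Sylow 11 G) = n at h2 h3
  have h6 : n * c = 72 := by nlinarith
  have h7 : c ≤ 72 := Nat.le_of_dvd (by norm_num) (h6 ▸ dvd_mul_left c n)
  unfold Nat.ModEq at h3
  interval_cases c <;> omega

end H47.Homog
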