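import Mathlib
import Cfsg.Agent.Lib.Homog.Three
import Cfsg.Agent.Lib.AutCl.PSLAut

/-!
Homogeneous groups among `SL₂(q)` and `L₂(q)`.
-/

set_option autoImplicit false

namespace H47.Homog

open Subgroup H69 Cfsg Matrix
open scoped MatrixGroups commutatorElement

theorem eq_of_perfect {G H : Type*} [Group G] [Group H] (hG : Group.IsPerfect G) (φ ψ : G →* H)
    (h : ∀ s, (φ s)⁻¹ * ψ s ∈ center H) : φ = ψ := by
  refine MonoidHom.eq_of_eqOn_dense ((commutator_eq_closure G).symm.trans hG.commutator_eq_top) ?_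
  rintro _ ⟨a, b, rfl⟩
  have ha := mem_center_iff.1 (h a)
  have hb := mem_center_iff.1 (h b)
  rw [map_commutatorElement, map_commutatorElement, ← mul_inv_cancel_left (φ a) (ψ a),
    ← mul_inv_cancel_left (φ b) (ψ b)]
  generalize (φ a)⁻¹ * ψ a = y at ha
  generalize (φ b)⁻¹ * ψ b = z at hb
  calc ⁅φ a, φ b⁆ = φ a * (φ b * y) * y⁻¹ * ((φ a)⁻¹ * z) * z⁻¹ * (φ b)⁻¹ := by group
    _ = φ a * y * φ b * (y⁻¹ * z) * (φ a)⁻¹ * z⁻¹ * (φ b)⁻¹ := by rw [ha, hb]; group
    _ = _ := by rw [hb]; group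

theorem exists_coprime {n : ℕ} (h0 : n ≠ 0) (h : n ∉ ({1, 2, 3, 4, 6} : Finset ℕ)) :
    ∃ j, Nat.Coprime (j + 2) n ∧ j + 4 ≤ n := by
  simp only [Finset.mem_insert, Finset.mem_singleton, not_or] at h
  rcases Nat.even_or_odd' n with ⟨k, rfl | rfl⟩
  · rcases Nat.even_or_odd' k with ⟨l, rfl | rfl⟩
    · obtain ⟨m, rfl⟩ : ∃ m, l = m + 2 := ⟨l - 2, by omega⟩
      refine ⟨2 * m + 1, ?_, by omega⟩
      rw [show 2 * (2 * (m + 2)) = 2 + (2 * m + 1 + 2) * 2 by ring, Nat.coprime_add_mul_left_right,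
        Nat.coprime_two_right]
      exact ⟨m + 1, by ring⟩
    · obtain ⟨m, rfl⟩ : ∃ m, l = m + 2 := ⟨l - 2, by omega⟩
      refine ⟨2 * m + 1, ?_, by omega⟩
      rw [show 2 * (2 * (m + 2) + 1) = 2 ^ 2 + (2 * m + 1 + 2) * 2 by ring,
        Nat.coprime_add_mul_left_right]
      exact (Nat.coprime_two_right.2 ⟨m + 1, by ring⟩).pow_right 2
  · exact ⟨0, Nat.coprime_two_left.2 ⟨k, rfl⟩, by omega⟩

variable {F : Type*} [Field F] [Fintype F]

local notation "M" => slToMat 2 F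
local notation "π" => QuotientGroup.mk' (center SL(2, F))

theorem tor {x : Fˣ} (h : ∀ j, Nat.Coprime j (orderOf x) → ((x ^ j : Fˣ) : F) + (x ^ j)⁻¹ = x + x⁻¹) :
    orderOf x ∈ ({1, 2, 3, 4, 6} : Finset ℕ) := by
  by_contra hn
  obtain ⟨j, h1, h2⟩ := exists_coprime (orderOf_pos x).ne' hn
  have h3 := h _ h1
  have h0 := x.ne_zero
  have h4 : ((x : F) ^ (j + 3) - 1) * (x ^ (j + 1) - 1) = 0 := by
    simp only [Units.val_pow_eq_pow_val, Units.val_inv_eq_inv_val] at h3
    field_simp at h3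
    refine mul_left_cancel₀ h0 ?_
    linear_combination h3
  rcases mul_eq_zero.1 h4 with e | e
  · exact absurd (orderOf_le_of_pow_eq_one (by omega) (Units.ext (sub_eq_zero.1 e) : x ^ (j + 3) = 1))
      (by omega)
  · exact absurd (orderOf_le_of_pow_eq_one (by omega) (Units.ext (sub_eq_zero.1 e) : x ^ (j + 1) = 1))
      (by omega)

theorem aut (β : MulAut (ProjectiveSpecialLinearGroup (Fin 2) F)) :
    ∃ (σ : F ≃+* F) (g : GL (Fin 2) F) (ψ : SL(2, F) →* SL(2, F)),
      (∀ s, M (ψ s) = g.1 * (M s).map σ * (g⁻¹).1) ∧ ∀ s, β (π s) = π (ψ s) := by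
  obtain ⟨g, σ, h | ⟨h, -⟩⟩ := H67.psl_aut (by simp) β
  swap
  · simp at h
  let f (s : SL(2, F)) : SL(2, F) := ⟨g.1 * (M s).map σ * (g⁻¹).1, by
    rw [det_mul, det_mul, mul_right_comm, ← det_mul, Units.mul_inv, det_one, one_mul,
      ← σ.mapMatrix_apply, ← σ.map_det, show (M s).det = 1 from s.2, map_one]⟩
  have hf : ∀ s, M (f s) = g.1 * (M s).map σ * (g⁻¹).1 := fun _ => rfl
  refine ⟨σ, g, MonoidHom.mk' f fun a b => slToMat_inj ?_, hf, fun s =>
    (H67.isInducedBySemilinearPSL_iff g σ β).2 h s _ rfl⟩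
  simp only [map_mul, hf, Matrix.map_mul, mul_assoc, Units.inv_mul_cancel_left]

omit [Fintype F] in
theorem trace_conj (σ : F ≃+* F) (g : GL (Fin 2) F) (A : Matrix (Fin 2) (Fin 2) F) :
    (g.1 * A.map σ * (g⁻¹).1).trace = σ A.trace := by
  rw [trace_mul_cycle, Units.inv_mul, one_mul, trace_fin_two, trace_fin_two, map_add]; rfl

omit [Fintype F] in
theorem exists_aut (φ : SL(2, F) ≃* SL(2, F)) :
    ∃ β : MulAut (ProjectiveSpecialLinearGroup (Fin 2) F), ∀ s, β (π s) = π (φ s) :=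
  ⟨QuotientGroup.congr _ _ φ (by
    ext x
    exact (mem_map_equiv (f := φ)).trans (MulEquivClass.apply_mem_center_iff φ.symm)), fun _ => rfl⟩

variable (F) in
/-- The upper unitriangular matrices. -/
def uu : Multiplicative F →* SL(2, F) :=
  MonoidHom.mk' (fun b => ⟨!![1, b.toAdd; 0, 1], by simp [det_fin_two]⟩) fun a b =>
    slToMat_inj (by
      change !![1, a.toAdd + b.toAdd; 0, 1] = !![1, a.toAdd; 0, 1] * !![1, b.toAdd; 0, 1]
      simp [add_comm])

omit [Fintype F] in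
theorem M_uu (b : Multiplicative F) : M (uu F b) = !![1, b.toAdd; 0, 1] := rfl

omit [Fintype F] in
theorem uu_inj : Function.Injective ((π).comp (uu F)) := fun a b e => by
  obtain ⟨c, -, hc⟩ := mk_eq e
  have h1 := congrFun (congrFun hc 0) 0
  have h2 := congrFun (congrFun hc 0) 1
  simp only [M_uu] at h1 h2
  simp at h1 h2
  rw [← h1, one_mul] at h2
  exact Multiplicative.toAdd.injective h2.symm

theorem prime_of (hF : Odd (Fintype.card F)) (h : ∀ μ : F ≃+ F,
    ∃ β : MulAut (ProjectiveSpecialLinearGroup (Fin 2) F),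
      ∀ b, β (π (uu F b)) = π (uu F (AddEquiv.toMultiplicative μ b))) :
    (Fintype.card F).Prime ∧ ∀ (σ : F ≃+* F) (x : F), σ x = x := by
  obtain ⟨p, hc⟩ := CharP.exists F
  have hp : Fact p.Prime := ⟨CharP.char_is_prime F p⟩
  have h2 : (2 : F) ≠ 0 := Ring.two_ne_zero fun e =>
    absurd (FiniteField.even_card_of_char_two e) (by rw [Nat.odd_iff] at hF; omega)
  let _ := ZMod.algebra F p
  have hs : Function.Surjective (algebraMap (ZMod p) F) := fun m => by
    by_contra hm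
    obtain ⟨l, hl1, hl2⟩ := (Submodule.span (ZMod p) {(1 : F)}).exists_dual_map_eq_bot_of_notMem
      (x := m) (fun e => hm (by
        obtain ⟨a, ha⟩ := Submodule.mem_span_singleton.1 e
        exact ⟨a, by rw [Algebra.algebraMap_eq_smul_one, ha]⟩)) inferInstance
    have h1 : l 1 = 0 := (Submodule.eq_bot_iff _).1 hl2 _ ⟨1, Submodule.mem_span_singleton_self _, rfl⟩
    let μ : F ≃+ F :=
      { toFun := fun x => x + l x • 1
        invFun := fun x => x - l x • 1
        left_inv := fun x => by simp [h1]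
        right_inv := fun x => by simp [h1]
        map_add' := fun x y => by simp only [map_add, add_smul]; ring }
    obtain ⟨β, hβ⟩ := h μ
    obtain ⟨σ, g, ψ, h3, h4⟩ := aut β
    have h5 : ∀ b : F, !![1, μ b; 0, 1] * g.1 = g.1 * !![1, σ b; 0, 1] := fun b => by
      obtain ⟨c, -, hc⟩ := mk_eq ((h4 _).symm.trans (hβ (Multiplicative.ofAdd b)))
      have e : (M (uu F (Multiplicative.ofAdd b))).map σ = !![1, σ b; 0, 1] := by
        ext i j; fin_cases i <;> fin_cases j <;> simp [M_uu]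
      have ht := congrArg trace hc
      rw [trace_smul, h3, trace_conj, M_uu, M_uu, trace_fin_two_of, trace_fin_two_of, one_add_one_eq_two,
        map_ofNat, smul_eq_mul, right_eq_mul₀ h2] at ht
      rw [ht, one_smul, h3, e, M_uu] at hc
      rw [← Units.inv_mul_cancel_right (g.1 * !![1, σ b; 0, 1]) g, ← hc]; rfl
    have h6 : ∀ b, μ b = σ b := fun b => by
      have e1 := fun i j => congrFun (congrFun (h5 1) i) j
      have e2 := congrFun (congrFun (h5 b) 0) 1
      have hd := g.det_ne_zero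
      rw [det_fin_two] at hd
      simp [μ, h1, Fin.forall_fin_two, Matrix.mul_apply] at e1 e2 ⊢
      refine mul_right_cancel₀ (b := g.1 1 1) (fun e => hd (by simp [e, e1.1.1])) ?_
      linear_combination e2 - σ b * e1.1.2
    have h7 := h6 (m * m)
    rw [map_mul σ, ← h6] at h7
    simp only [μ, AddEquiv.coe_mk, Equiv.coe_fn_mk, ← Algebra.algebraMap_eq_smul_one] at h7
    have h8 := (map_ne_zero (algebraMap (ZMod p) F)).2 hl1
    refine hm ⟨(l (m * m) - l m * l m) / (2 * l m), ?_⟩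
    rw [map_div₀, map_sub, map_mul (algebraMap _ _), map_mul (algebraMap _ _), map_ofNat,
      div_eq_iff (mul_ne_zero h2 h8)]
    linear_combination h7
  refine ⟨?_, fun σ x => ?_⟩
  · rw [← Fintype.card_of_bijective ⟨(algebraMap (ZMod p) F).injective, hs⟩, ZMod.card]
    exact hp.out
  · obtain ⟨a, rfl⟩ := hs x
    obtain ⟨n, rfl⟩ := ZMod.natCast_zmod_surjective a
    simp

/-- The diagonal matrices. -/
def dd : Fˣ →* SL(2, F) :=
  MonoidHom.mk' (fun a => ⟨!![a, 0; 0, (a⁻¹ : Fˣ)], by simp [det_fin_two]⟩) fun a b =>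
    slToMat_inj (by
      change !![((a * b : Fˣ) : F), 0; 0, ((a * b)⁻¹ : Fˣ)] =
        !![(a : F), 0; 0, (a⁻¹ : Fˣ)] * !![(b : F), 0; 0, (b⁻¹ : Fˣ)]
      simp [mul_comm])

omit [Fintype F] in
theorem trace_dd (a : Fˣ) : (M (dd a)).trace = a + (a⁻¹ : Fˣ) := trace_fin_two_of _ _ _ _

omit [Fintype F] in
theorem trace_map {R : Type} [Field R] (e : R →+* F) (s : SL(2, R)) :
    (M (Matrix.SpecialLinearGroup.map e s)).trace = e (s 0 0 + s 1 1) := by
  rw [trace_fin_two, map_add]; rfl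

theorem ex13 : ∃ t : SL(2, ZMod 13), t ^ 7 = 1 ∧ ((t ^ 2) 0 0 + (t ^ 2) 1 1) ^ 2 ≠ (t 0 0 + t 1 1) ^ 2 :=
  ⟨⟨!![0, -1; 1, 7], by simp [det_fin_two]⟩, by decide +kernel, by decide +kernel⟩

theorem ex7 : ∃ t : SL(2, ZMod 7), t ^ 8 = 1 ∧ (t ^ 3) 0 0 + (t ^ 3) 1 1 ≠ t 0 0 + t 1 1 :=
  ⟨⟨!![0, -1; 1, 3], by simp [det_fin_two]⟩, by decide +kernel, by decide +kernel⟩

theorem card_of_psl (hF : Odd (Fintype.card F)) (h5 : 5 ≤ Fintype.card F)
    (h : Hm (ProjectiveSpecialLinearGroup (Fin 2) F)) : Fintype.card F = 5 ∨ Fintype.card F = 7 := by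
  obtain ⟨hp, hσ⟩ := prime_of hF fun μ => h.of_inj _ (((π).comp (uu F)).comp
    (AddEquiv.toMultiplicative μ).toMonoidHom) uu_inj (uu_inj.comp (MulEquiv.injective _))
  have key : ∀ (s : SL(2, F)) (j n : ℕ), π s ^ n = 1 → j.Coprime n →
      (M (s ^ j)).trace ^ 2 = (M s).trace ^ 2 := fun s j n hn hj => by
    obtain ⟨β, hβ⟩ := h.of_orderOf
      (hj.symm.coprime_dvd_left (orderOf_dvd_of_pow_eq_one hn)).orderOf_pow.symm
    obtain ⟨σ, g, ψ, h3, h4⟩ := aut β
    obtain ⟨c, hc, e⟩ := mk_eq ((h4 s).symm.trans (hβ.trans (map_pow _ _ _).symm))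
    rw [e, trace_smul, h3, trace_conj, hσ, smul_eq_mul, mul_pow, hc, one_mul]
  obtain ⟨s, hs⟩ := IsCyclic.exists_ofOrder_eq_natCard (α := Fˣ)
  rw [Nat.card_units, Nat.card_eq_fintype_card] at hs
  have h1 := tor (x := s ^ 2) fun j hj => by
    have := key (dd s) j _ (by
      rw [← map_pow, ← map_pow]
      have e : (s ^ orderOf (s ^ 2)) ^ 2 = 1 := by rw [pow_right_comm, pow_orderOf_eq_one]
      generalize s ^ orderOf (s ^ 2) = t at e
      refine (QuotientGroup.eq_one_iff _).2 (H67.scalar_mem_center_sl (c := (t : F)) ?_)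
      change !![(t : F), 0; 0, (t⁻¹ : Fˣ)] = _
      rw [inv_eq_of_mul_eq_one_right ((sq t).symm.trans e)]
      ext i j; fin_cases i <;> fin_cases j <;> simp) hj
    rw [← map_pow, trace_dd, trace_dd] at this
    rw [pow_right_comm]
    generalize s ^ j = t at this
    have e1 := t.mul_inv
    have e2 := s.mul_inv
    simp only [← inv_pow, Units.val_pow_eq_pow_val]
    linear_combination this - 2 * e1 + 2 * e2
  rw [orderOf_pow, hs] at h1
  obtain ⟨k, hk⟩ := hF
  rw [hk, Nat.add_sub_cancel, Nat.gcd_eq_right (dvd_mul_right 2 k), Nat.mul_div_cancel_left _ two_pos] at h1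
  simp only [Finset.mem_insert, Finset.mem_singleton] at h1
  rcases h1 with rfl | rfl | rfl | rfl | rfl
  · omega
  · exact .inl hk
  · exact .inr hk
  · exact absurd (hk ▸ hp) (by norm_num)
  · have : Fact (Nat.Prime 13) := ⟨by norm_num⟩
    let e := (ZMod.ringEquivOfPrime F this.out hk).toRingHom
    obtain ⟨t, h7, ht⟩ := ex13
    have := key (Matrix.SpecialLinearGroup.map e t) 2 7 (by
      rw [← map_pow, ← map_pow, h7, map_one, map_one]) (by norm_num)
    rw [← map_pow, trace_map, trace_map, ← map_pow, ← map_pow] at this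
    exact (ht (e.injective this)).elim

theorem card_of_sl (hF : Odd (Fintype.card F)) (h3 : 3 < Fintype.card F)
    (hP : Group.IsPerfect SL(2, F)) (h : Hm SL(2, F)) : Fintype.card F = 5 := by
  obtain ⟨-, hσ⟩ := prime_of hF fun μ => by
    obtain ⟨φ, hφ⟩ := h.of_inj (uu F) ((uu F).comp (AddEquiv.toMultiplicative μ).toMonoidHom)
      (Function.Injective.of_comp (f := π) uu_inj)
      ((Function.Injective.of_comp (f := π) uu_inj).comp (MulEquiv.injective _))
    obtain ⟨β, hβ⟩ := exists_aut φ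
    exact ⟨β, fun b => by rw [hβ, hφ]; rfl⟩
  have key : ∀ (s : SL(2, F)) (j n : ℕ), s ^ n = 1 → j.Coprime n →
      (M (s ^ j)).trace = (M s).trace := fun s j n hn hj => by
    obtain ⟨φ, hφ⟩ := h.of_orderOf
      (hj.symm.coprime_dvd_left (orderOf_dvd_of_pow_eq_one hn)).orderOf_pow.symm
    obtain ⟨β, hβ⟩ := exists_aut φ
    obtain ⟨σ, g, ψ, h3, h4⟩ := aut β
    have := eq_of_perfect hP φ.toMonoidHom ψ fun s => QuotientGroup.eq.1 ((hβ s).symm.trans (h4 s))
    rw [← hφ, show φ s = ψ s from DFunLike.congr_fun this s, h3, trace_conj, hσ]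
  obtain ⟨s, hs⟩ := IsCyclic.exists_ofOrder_eq_natCard (α := Fˣ)
  rw [Nat.card_units, Nat.card_eq_fintype_card] at hs
  have h1 := tor (x := s) fun j hj => by
    have := key (dd s) j _ (by rw [← map_pow, pow_orderOf_eq_one, map_one]) hj
    rwa [← map_pow, trace_dd, trace_dd] at this
  rw [hs] at h1
  simp only [Finset.mem_insert, Finset.mem_singleton] at h1
  rw [Nat.odd_iff] at hF
  by_contra h5
  have hk : Fintype.card F = 7 := by omega
  have : Fact (Nat.Prime 7) := ⟨by norm_num⟩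
  let e := (ZMod.ringEquivOfPrime F this.out hk).toRingHom
  obtain ⟨t, h8, ht⟩ := ex7
  have := key (Matrix.SpecialLinearGroup.map e t) 3 8 (by
    rw [← map_pow, h8, map_one]) (by norm_num)
  rw [← map_pow, trace_map, trace_map] at this
  exact ht (e.injective this)

end H47.Homog
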