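import Mathlib
import Cfsg.Agent.Lib.Homog.Two

/-!
Every automorphism of `SL₂(p)` or `L₂(p)` is an involution up to an inner automorphism.
-/

set_option autoImplicit false

namespace H65.HG

open Subgroup H47.Homog Cfsg Matrix
open scoped MatrixGroups

/-- Every automorphism becomes an involution after composing with an inner one. -/
def Out2 (X : Type*) [Group X] : Prop :=
  ∀ β : X ≃* X, ∃ k : X, ∀ s, β (k * β (k * s * k⁻¹) * k⁻¹) = s

theorem Out2.equiv {X Y : Type*} [Group X] [Group Y] (h : Out2 Y) (e : X ≃* Y) : Out2 X := fun β => by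
  obtain ⟨k, hk⟩ := h (e.symm.trans (β.trans e))
  refine ⟨e.symm k, fun s => e.injective ?_⟩
  simpa using hk (e s)

variable {F : Type*} [Field F] [Fintype F]

local notation "M" => slToMat 2 F
local notation "π" => QuotientGroup.mk' (center SL(2, F))

theorem sigma_triv (hF : (Fintype.card F).Prime) (σ : F ≃+* F) (x : F) : σ x = x := by
  have : Fact (Nat.card F).Prime := ⟨by rwa [Nat.card_eq_fintype_card]⟩
  obtain ⟨n, rfl⟩ := mem_zmultiples_of_prime_card (G := F) rfl one_ne_zero (g' := x)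
  simp

theorem inner_sq (hF : (Fintype.card F).Prime) {σ : F ≃+* F} {g : GL (Fin 2) F}
    {ψ : SL(2, F) →* SL(2, F)} (h : ∀ s, M (ψ s) = g.1 * (M s).map σ * (g⁻¹).1) :
    ∃ k : SL(2, F), ∀ s, ψ (k * ψ (k * s * k⁻¹) * k⁻¹) = s := by
  have h' : ∀ s, M (ψ s) = g.1 * M s * (g⁻¹).1 := fun s => by
    rw [h]
    congr 2
    ext i j
    exact sigma_triv hF σ _
  set d := g.1.det with hd
  set J : Matrix (Fin 2) (Fin 2) F := !![0, 1; -d, 0] with hJ
  have hJd : J.det = d := by simp [hJ, det_fin_two]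
  let k : SL(2, F) := ⟨(g⁻¹).1 * J, by
    rw [det_mul, hJd, hd, ← det_mul, Units.inv_mul, det_one]⟩
  have hk : g.1 * M k = J := by
    change g.1 * ((g⁻¹).1 * J) = J
    rw [Units.mul_inv_cancel_left]
  have h1 : ∀ s, M (ψ (k * s * k⁻¹)) * J = J * M s := fun s => by
    rw [h', ← hk, map_mul, map_mul]
    simp only [mul_assoc, Units.inv_mul_cancel_left]
    rw [← map_mul, inv_mul_cancel, map_one, mul_one]
  have h2 : J * J = (-d) • (1 : Matrix (Fin 2) (Fin 2) F) := by
    ext i j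
    fin_cases i <;> fin_cases j <;> simp [hJ]
  have h0 : -d ≠ 0 := neg_ne_zero.2 (by
    rw [hd]; exact (Matrix.GeneralLinearGroup.det g).ne_zero)
  refine ⟨k, fun s => slToMat_inj ?_⟩
  have h3 : M (ψ (k * ψ (k * s * k⁻¹) * k⁻¹)) * (J * J) = (J * J) * M s := by
    rw [← mul_assoc, h1, mul_assoc, h1, mul_assoc]
  rw [h2, mul_smul_comm, smul_mul_assoc, mul_one, one_mul] at h3
  exact smul_right_injective _ h0 h3

theorem out2_psl (hF : (Fintype.card F).Prime) :
    Out2 (ProjectiveSpecialLinearGroup (Fin 2) F) := fun β => by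
  obtain ⟨σ, g, ψ, h1, h2⟩ := aut β
  obtain ⟨k, hk⟩ := inner_sq hF h1
  refine ⟨π k, fun s => ?_⟩
  obtain ⟨s, rfl⟩ := QuotientGroup.mk'_surjective _ s
  rw [← map_inv, ← map_mul, ← map_mul, h2, ← map_mul, ← map_mul, h2, hk]

theorem out2_sl (hF : (Fintype.card F).Prime) (hP : Group.IsPerfect SL(2, F)) :
    Out2 SL(2, F) := fun φ => by
  obtain ⟨β, hβ⟩ := exists_aut φ
  obtain ⟨σ, g, ψ, h1, h2⟩ := aut β
  obtain ⟨k, hk⟩ := inner_sq hF h1
  have : φ.toMonoidHom = ψ := eq_of_perfect hP _ _ fun s =>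
    QuotientGroup.eq.1 ((hβ s).symm.trans (h2 s))
  subst this
  exact ⟨k, hk⟩

theorem eqns_SpOut : True := by
  have := @Out2.eq_1.{0}
  trivial

end H65.HG
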